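import Cfsg.Agent.H928.Ore.Block
import Cfsg.Agent.H584.Ore.Tab

/-!
`F₄(2)`: the homomorphism `SL₃(2) × SL₂(2) → L_J` (`J` = all nodes but the node 1) and the element without fixed points
(S2443, S4171).
-/

set_option autoImplicit false
set_option linter.unusedSectionVars false

namespace Cfsg.Agent.H197.OreF

open CoxeterSystem Cfsg.Agent.ChevalleyStructure.CoxeterGeom Cfsg.Agent.Tits.Roots Cfsg.Agent.Tits.Core
  Cfsg.Agent.Nodes.Reps Cfsg.Agent.Nodes.BNOf Cfsg.Agent.Nodes.RGDLib Cfsg.Agent.Nodes.Bruhat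
  Cfsg.Agent.Nodes.OppDec Cfsg.Agent.Nodes.LeviDec Cfsg.Agent.Nodes.KindChev Cfsg.Agent.Nodes.ChevCls
  Cfsg.Agent.OddHalf.NI.ModelChev Cfsg.Agent.Nodes.StabComb
  Cfsg.Agent.H162.GaussDec Cfsg.Agent.H162.GaussLevi Cfsg.Agent.H162.GaussSL Cfsg.Agent.H162.GaussReg
  Cfsg.Agent.H928.Ore.Frame Cfsg.Agent.H928.Ore.Fix Cfsg.Agent.H928.Ore.Block
open Cfsg.Lie Cfsg.Agent.ChevalleyStructure Cfsg.Agent.ChevalleyStructure.Elts
  Cfsg.Agent.ChevalleyStructure.RootVec Cfsg.Agent.ChevalleyStructure.NPerm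
  Cfsg.Agent.ChevalleyStructure.CoxeterGeomTypes Cfsg.Agent.Nodes.RGDChev Cfsg.Agent.KFacts.RgdChevCoord
open Cfsg.Agent.FixBN.FieldRGD (uu vv dd ww)
open Cfsg.Agent.TitsThree.KExcRT Cfsg.Agent.AGraded
open scoped MatrixGroups

universe u v

/-! ### Homomorphisms -/

/-- two homomorphisms commute if the images of the transvections commute -/
theorem comm_hom {Y : Type*} [Group Y] {n m : ℕ} {K : Type*} [Field K]
    (f : Matrix.SpecialLinearGroup (Fin n) K →* Y) (g : Matrix.SpecialLinearGroup (Fin m) K →* Y)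
    (h : ∀ a b (hab : a ≠ b) c a' b' (hab' : a' ≠ b') c', f (Matrix.SpecialLinearGroup.transvection hab c) *
      g (Matrix.SpecialLinearGroup.transvection hab' c') =
      g (Matrix.SpecialLinearGroup.transvection hab' c') * f (Matrix.SpecialLinearGroup.transvection hab c))
    (A : Matrix.SpecialLinearGroup (Fin n) K) (B : Matrix.SpecialLinearGroup (Fin m) K) : Commute (f A) (g B) := by
  have h1 : ∀ a' b' (hab' : a' ≠ b') c' A, f A * g (Matrix.SpecialLinearGroup.transvection hab' c') =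
      g (Matrix.SpecialLinearGroup.transvection hab' c') * f A := by
    intro a' b' hab' c' A
    have h2 : (MulAut.conj (g (Matrix.SpecialLinearGroup.transvection hab' c'))).toMonoidHom.comp f = f := by
      refine hom_ext fun a b hab c => ?_
      change g _ * f _ * (g _)⁻¹ = f _
      rw [← h a b hab c a' b' hab' c', mul_inv_cancel_right]
    have h3 := DFunLike.congr_fun h2 A
    change g _ * f A * (g _)⁻¹ = f A at h3
    exact (mul_inv_eq_iff_eq_mul.1 h3).symm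
  have h4 : (MulAut.conj (f A)).toMonoidHom.comp g = g := by
    refine hom_ext fun a' b' hab' c' => ?_
    change f A * g _ * (f A)⁻¹ = g _
    rw [h1, mul_inv_cancel_right]
  have h5 := DFunLike.congr_fun h4 B
  change f A * g B * (f A)⁻¹ = g B at h5
  exact mul_inv_eq_iff_eq_mul.1 h5

theorem map_tv {n : ℕ} {K : Type u} {K' : Type v} [Field K] [Field K'] (ι : K →+* K') {a b : Fin n} (hab : a ≠ b)
    (c : K) : Matrix.SpecialLinearGroup.map ι (Matrix.SpecialLinearGroup.transvection hab c) =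
      Matrix.SpecialLinearGroup.transvection hab (ι c) := by
  apply Subtype.ext
  ext i j
  change ι ((1 + Matrix.single a b c) i j) = (1 + Matrix.single a b (ι c)) i j
  rw [Matrix.add_apply, Matrix.add_apply, map_add, Matrix.one_apply, Matrix.one_apply, Matrix.single_apply,
    Matrix.single_apply]
  split_ifs <;> simp

section

variable {D : ChevalleyDatum} {l : ℕ} {M : CoxeterMatrix (Fin l)} (hp : IsType D l M) {K : Type u} {K' : Type v}
  [Field K] [Field K'] (ι : K →+* K')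
  {n : ℕ} {r : Fin n → Fin n → ℕ} {ε : ℤ} (hr : ∀ a b, a ≠ b → r a b < D.nroots)
  {φ : Matrix.SpecialLinearGroup (Fin n) K →* ↥(D.group K)}
  (hφ : ∀ a b (hab : a ≠ b) c, φ (Matrix.SpecialLinearGroup.transvection hab c) = xc hp (vec D l (r a b)) ((ε : K) * c))
  {φ' : Matrix.SpecialLinearGroup (Fin n) K' →* ↥(D.group K')}
  (hφ' : ∀ a b (hab : a ≠ b) c, φ' (Matrix.SpecialLinearGroup.transvection hab c) =
    xc hp (vec D l (r a b)) ((ε : K') * c))

include hr hφ hφ'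

/-- the blocks and the base change -/
theorem bc_phi (A : Matrix.SpecialLinearGroup (Fin n) K) :
    bc D ι (φ A) = φ' (Matrix.SpecialLinearGroup.map ι A) := by
  have h1 : (bc D ι).comp φ = φ'.comp (Matrix.SpecialLinearGroup.map ι) := by
    refine hom_ext fun a b hab c => ?_
    change bc D ι (φ _) = φ' (Matrix.SpecialLinearGroup.map ι _)
    rw [hφ, bc_xc hp ι (hr a b hab), map_tv, hφ', map_mul, map_intCast]
  exact DFunLike.congr_fun h1 A

end

/-- the rank one homomorphism on transvections -/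
theorem sl_tv {D : ChevalleyDatum} {l : ℕ} {M : CoxeterMatrix (Fin l)} (hp : IsType D l M) {K : Type u} [Field K]
    (i : Fin l) {r : Fin 2 → Fin 2 → ℕ} (h1 : r 0 1 = D.simple i) (h2 : r 1 0 = D.neg (D.simple i))
    (a b : Fin 2) (hab : a ≠ b) (c : K) :
    sl hp i (Matrix.SpecialLinearGroup.transvection hab c) = xc hp (vec D l (r a b)) (((1 : ℤ) : K) * c) := by
  have e1 : ∀ c : K, Matrix.SpecialLinearGroup.transvection (show (0 : Fin 2) ≠ 1 by decide) c = uu c := by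
    intro c
    apply Subtype.ext
    ext i j
    fin_cases i <;> fin_cases j <;> simp [Matrix.SpecialLinearGroup.transvection, Matrix.transvection, uu]
  have e2 : ∀ c : K, Matrix.SpecialLinearGroup.transvection (show (1 : Fin 2) ≠ 0 by decide) c = vv c := by
    intro c
    apply Subtype.ext
    ext i j
    fin_cases i <;> fin_cases j <;> simp [Matrix.SpecialLinearGroup.transvection, Matrix.transvection, vv]
  have hs : D.simple i < D.nroots := simple_lt hp.inList (lt_rank hp i)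
  rw [Int.cast_one, one_mul]
  fin_cases a <;> fin_cases b
  · exact absurd rfl hab
  · refine (congrArg (sl hp i) (e1 c)).trans ?_
    rw [sl_uu]
    change _ = xc hp (vec D l (r 0 1)) c
    rw [h1, vec_simple hp i]
  · refine (congrArg (sl hp i) (e2 c)).trans ?_
    rw [sl_vv]
    change _ = xc hp (vec D l (r 1 0)) c
    rw [h2, vec_neg hp hs, vec_simple hp i]
  · exact absurd rfl hab

/-! ### The tables of `F₄` -/

/-- the long block: the nodes 3, 2 -/
def rL : Fin 3 → Fin 3 → ℕ := ![![0, 24, 26], ![23, 0, 25], ![21, 22, 0]]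

/-- the short block: the nodes 1, 0 -/
def rS : Fin 3 → Fin 3 → ℕ := ![![0, 27, 34], ![20, 0, 33], ![13, 14, 0]]

/-- the node 0 -/
def r0 : Fin 2 → Fin 2 → ℕ := ![![0, 33], ![14, 0]]

theorem rtL : RTa chevF4 rL ∧ (RTb chevF4 rL fun _ _ => 1) ∧ RTc chevF4 rL ∧
    ∀ i j, i ≠ j → rL j i = chevF4.neg (rL i j) := by decide +kernel

theorem rtS : RTa chevF4 rS ∧ (RTb chevF4 rS fun _ _ => 1) ∧ RTc chevF4 rS ∧
    ∀ i j, i ≠ j → rS j i = chevF4.neg (rS i j) := by decide +kernel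

theorem simples : chevF4.simple 0 = 33 ∧ chevF4.simple 1 = 27 ∧ chevF4.simple 2 = 25 ∧ chevF4.simple 3 = 24 ∧
    chevF4.neg 33 = 14 := by decide +kernel

theorem tabC : ∀ a b, a ≠ b → ∀ a' b', a' ≠ b' → r0 a' b' < chevF4.nroots ∧ r0 a' b' ≠ rL a b ∧
    r0 a' b' ≠ chevF4.neg (rL a b) ∧ chevF4.commTerms (rL a b) (r0 a' b') = [] := by decide +kernel

theorem tabJ : ∀ a b, a ≠ b → vec chevF4 4 (rL a b) 1 = 0 ∧ chevF4.cartan 0 (rL a b) = 0 := by decide +kernel

theorem tabJ' : ∀ a b, a ≠ b → r0 a b < chevF4.nroots ∧ vec chevF4 4 (r0 a b) 1 = 0 := by decide +kernel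

theorem tabN : ∀ s < chevF4.nroots, vec chevF4 4 s 1 ≠ 0 →
    ¬ ((3 : ℤ) ∣ chevF4.cartan 0 s ∧ (7 : ℤ) ∣ chevF4.cartan 3 s + 3 * chevF4.cartan 2 s) := by decide +kernel

/-! ### The field with 64 elements -/

/-- the elements of order 7 and 3 -/
structure Fld (K' : Type) [Field K'] (x y : K'ˣ) : Prop where
  two : (2 : K') = 0
  seven : ∀ n : ℤ, x ^ n = 1 → 7 ∣ n
  x3 : (x : K') ^ 3 + (x : K') ^ 2 + 1 = 0
  three : ∀ n : ℤ, y ^ n = 1 → 3 ∣ n
  y2 : (y : K') ^ 2 + (y : K') + 1 = 0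

theorem exists_fld : ∃ (K' : Type) (_ : Field K') (_ : Finite K') (_ : ZMod 2 →+* K') (x y : K'ˣ), Fld K' x y := by
  have : Fact (Nat.Prime 2) := ⟨Nat.prime_two⟩
  let K' := GaloisField 2 6
  have hcard : Nat.card K' = 2 ^ 6 := GaloisField.card 2 6 (by norm_num)
  have h2 : (2 : K') = 0 := by
    have := CharP.cast_eq_zero K' 2
    exact_mod_cast this
  classical
  have : Fintype K' := Fintype.ofFinite K'
  obtain ⟨t, ht⟩ := IsCyclic.exists_ofOrder_eq_natCard (α := K'ˣ)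
  have ht' : orderOf t = 63 := by
    rw [ht, Nat.card_units, hcard]
    norm_num
  have e7 : orderOf (t ^ 9) = 7 := by
    rw [orderOf_pow, ht']
    norm_num
  have e3 : orderOf (t ^ 21) = 3 := by
    rw [orderOf_pow, ht']
    norm_num
  -- the cube root of unity
  have hy : (((t ^ 21 : K'ˣ) : K')) ^ 2 + ((t ^ 21 : K'ˣ) : K') + 1 = 0 := by
    have h1 : (t ^ 21) ^ 3 = 1 := by rw [← e3]; exact pow_orderOf_eq_one _
    have h3 : ((t ^ 21 : K'ˣ) : K') ≠ 1 := by
      intro h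
      have h4 : t ^ 21 = 1 := Units.ext h
      rw [h4, orderOf_one] at e3
      omega
    have h5 : ((t ^ 21 : K'ˣ) : K') ^ 3 = 1 := by
      rw [← Units.val_pow_eq_pow_val, h1, Units.val_one]
    have h6 : (((t ^ 21 : K'ˣ) : K') - 1) * ((((t ^ 21 : K'ˣ) : K')) ^ 2 + ((t ^ 21 : K'ˣ) : K') + 1) = 0 := by
      linear_combination h5
    exact (mul_eq_zero.1 h6).resolve_left (sub_ne_zero.2 h3)
  -- the element of order 7
  have hx : ∃ x : K'ˣ, orderOf x = 7 ∧ (x : K') ^ 3 + (x : K') ^ 2 + 1 = 0 := by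
    set u : K'ˣ := t ^ 9 with hu
    have h1 : (u : K') ^ 7 = 1 := by
      rw [← Units.val_pow_eq_pow_val, ← e7, pow_orderOf_eq_one, Units.val_one]
    have h3 : (u : K') ≠ 1 := by
      intro h
      have h4 : u = 1 := Units.ext h
      rw [h4, orderOf_one] at e7
      omega
    have h6 : ((u : K') - 1) * (((u : K') ^ 3 + (u : K') ^ 2 + 1) * ((u : K') ^ 3 + (u : K') + 1)) = 0 := by
      linear_combination h1 + ((u : K') ^ 4 - (u : K') ^ 3) * h2
    have h7 := (mul_eq_zero.1 h6).resolve_left (sub_ne_zero.2 h3)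
    rcases mul_eq_zero.1 h7 with h | h
    · exact ⟨u, e7, h⟩
    · refine ⟨u⁻¹, by rw [orderOf_inv, e7], ?_⟩
      rw [Units.val_inv_eq_inv_val]
      have h0 : (u : K') ≠ 0 := u.ne_zero
      have h8 : (u : K')⁻¹ * (u : K') = 1 := inv_mul_cancel₀ h0
      linear_combination ((u : K')⁻¹) ^ 3 * h - (((u : K')⁻¹ * (u : K')) ^ 2 + (u : K')⁻¹ * (u : K') + 1 +
        ((u : K')⁻¹) ^ 2) * h8
  obtain ⟨x, hx7, hx⟩ := hx
  refine ⟨K', inferInstance, inferInstance, ZMod.castHom (dvd_refl 2) K', x, t ^ 21, h2, fun n hn => ?_, hx,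
    fun n hn => ?_, hy⟩
  · rw [← orderOf_dvd_iff_zpow_eq_one, hx7] at hn
    exact_mod_cast hn
  · rw [← orderOf_dvd_iff_zpow_eq_one, e3] at hn
    exact_mod_cast hn

section

variable {K' : Type} [Field K'] {x y : K'ˣ} (F : Fld K' x y)

include F

theorem Fld.x7 : (x : K') ^ 7 = 1 := by
  linear_combination ((x : K') - 1) * ((x : K') ^ 3 + (x : K') + 1) * F.x3 - ((x : K') ^ 4 - (x : K') ^ 3) * F.two

theorem Fld.y3 : (y : K') ^ 3 = 1 := by
  linear_combination ((y : K') - 1) * F.y2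

theorem diag3 (ι : ZMod 2 →+* K') : ∃ P : Matrix.SpecialLinearGroup (Fin 3) K',
    Matrix.SpecialLinearGroup.map ι Cfsg.Agent.H584.Ore.Tab.XX0 = P * dg3 x (x ^ 3) * P⁻¹ := by
  have h2 := F.two
  have hx := F.x3
  have h7 := F.x7
  let P0 : Matrix (Fin 3) (Fin 3) K' := !![1, 1, 1; (x : K') ^ 2 + 1, (x : K') ^ 4 + 1, (x : K') + 1;
    (x : K'), (x : K') ^ 2, (x : K') ^ 4]
  have hd : P0.det = 1 := by
    rw [Matrix.det_fin_three]
    simp only [P0, Matrix.of_apply, Matrix.cons_val', Matrix.cons_val_zero, Matrix.cons_val_one, Matrix.cons_val]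
    grind
  let P : Matrix.SpecialLinearGroup (Fin 3) K' := ⟨P0, hd⟩
  refine ⟨P, eq_mul_inv_iff_mul_eq.2 ?_⟩
  apply Subtype.ext
  have e1 : ((Matrix.SpecialLinearGroup.map ι Cfsg.Agent.H584.Ore.Tab.XX0 : Matrix.SpecialLinearGroup (Fin 3) K') :
      Matrix (Fin 3) (Fin 3) K') = !![0, 0, 1; 0, 1, 1; 1, 1, 0] := by
    ext i j
    change ι (Cfsg.Agent.H584.Ore.Tab.X0 i j) = _
    fin_cases i <;> fin_cases j <;> simp [Cfsg.Agent.H584.Ore.Tab.X0]
  have e3 : ((x⁻¹ * x ^ 3 : K'ˣ) : K') = (x : K') ^ 2 := by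
    have : x⁻¹ * x ^ 3 = x ^ 2 := by group
    rw [this, Units.val_pow_eq_pow_val]
  have e4 : (((x ^ 3)⁻¹ : K'ˣ) : K') = (x : K') ^ 4 := by
    have h8 : x ^ 7 = 1 := Units.ext (by rw [Units.val_pow_eq_pow_val, h7, Units.val_one])
    have : (x ^ 3)⁻¹ = x ^ 4 := by
      rw [inv_eq_iff_mul_eq_one, ← pow_add, h8]
    rw [this, Units.val_pow_eq_pow_val]
  have e2 : ((dg3 x (x ^ 3) : Matrix.SpecialLinearGroup (Fin 3) K') : Matrix (Fin 3) (Fin 3) K') =
      !![(x : K'), 0, 0; 0, (x : K') ^ 2, 0; 0, 0, (x : K') ^ 4] := by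
    ext i j
    change Matrix.diagonal ![(x : K'), ((x⁻¹ * x ^ 3 : K'ˣ) : K'), (((x ^ 3)⁻¹ : K'ˣ) : K')] i j = _
    rw [e3, e4]
    fin_cases i <;> fin_cases j <;> simp
  rw [m3 e1 (show (P : Matrix (Fin 3) (Fin 3) K') = P0 from rfl), m3 (show (P : Matrix (Fin 3) (Fin 3) K') = P0 from rfl) e2]
  ext i j
  fin_cases i <;> fin_cases j <;> simp [P0, Matrix.mul_apply, Fin.sum_univ_three] <;> grind

theorem diag2 (ι : ZMod 2 →+* K') : ∃ P : Matrix.SpecialLinearGroup (Fin 2) K',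
    Matrix.SpecialLinearGroup.map ι Cfsg.Agent.H584.Ore.Tab.w = P * dd (y : K') y.ne_zero * P⁻¹ := by
  have h2 := F.two
  have hy := F.y2
  have h3 := F.y3
  have hy0 : (y : K') ≠ 0 := y.ne_zero
  have hyi : (y : K')⁻¹ = (y : K') ^ 2 := by
    refine inv_eq_of_mul_eq_one_right ?_
    linear_combination h3
  let P0 : Matrix (Fin 2) (Fin 2) K' := !![(y : K'), (y : K') ^ 2; 1, 1]
  have hd : P0.det = 1 := by
    rw [Matrix.det_fin_two]
    simp only [P0, Matrix.of_apply, Matrix.cons_val', Matrix.cons_val_zero, Matrix.cons_val_one]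
    grind
  let P : Matrix.SpecialLinearGroup (Fin 2) K' := ⟨P0, hd⟩
  refine ⟨P, eq_mul_inv_iff_mul_eq.2 ?_⟩
  apply Subtype.ext
  have e1 : ((Matrix.SpecialLinearGroup.map ι Cfsg.Agent.H584.Ore.Tab.w : Matrix.SpecialLinearGroup (Fin 2) K') :
      Matrix (Fin 2) (Fin 2) K') = !![1, 1; 1, 0] := by
    ext i j
    change ι ((!![1, 1; 1, 0] : Matrix (Fin 2) (Fin 2) (ZMod 2)) i j) = _
    fin_cases i <;> fin_cases j <;> simp
  change ((Matrix.SpecialLinearGroup.map ι Cfsg.Agent.H584.Ore.Tab.w : Matrix.SpecialLinearGroup (Fin 2) K') :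
      Matrix (Fin 2) (Fin 2) K') * P0 = P0 * !![(y : K'), 0; 0, (y : K')⁻¹]
  rw [e1, hyi]
  ext i j
  fin_cases i <;> fin_cases j <;> simp [P0, Matrix.mul_apply, Fin.sum_univ_two] <;> grind

end

/-! ### No fixed points -/

/-- the Chevalley datum `F₄` -/
theorem hpF : IsType chevF4 4 CoxeterMatrix.F₄ := Cfsg.Agent.Nodes.KindF.isType

/-- the nodes but the node 1 -/
def JF : Set (Fin 4) := {k | k ≠ 1}

theorem exists_long (K : Type u) [Field K] : ∃ φ : Matrix.SpecialLinearGroup (Fin 3) K →* ↥(chevF4.group K),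
    ∀ a b (hab : a ≠ b) c, φ (Matrix.SpecialLinearGroup.transvection hab c) =
      xc hpF (vec chevF4 4 (rL a b)) (((1 : ℤ) : K) * c) :=
  Cfsg.Agent.H162.GaussExcMain.exists_hom_D hpF (K := K) (ε := 1) (by norm_num) rtL.1 rtL.2.1 rtL.2.2.1 rtL.2.2.2

theorem exists_short (K : Type u) [Field K] : ∃ φ : Matrix.SpecialLinearGroup (Fin 3) K →* ↥(chevF4.group K),
    ∀ a b (hab : a ≠ b) c, φ (Matrix.SpecialLinearGroup.transvection hab c) =
      xc hpF (vec chevF4 4 (rS a b)) (((1 : ℤ) : K) * c) :=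
  Cfsg.Agent.H162.GaussExcMain.exists_hom_D hpF (K := K) (ε := 1) (by norm_num) rtS.1 rtS.2.1 rtS.2.2.1 rtS.2.2.2

theorem sl0_tv (K : Type u) [Field K] (a b : Fin 2) (hab : a ≠ b) (c : K) :
    sl hpF 0 (Matrix.SpecialLinearGroup.transvection hab c) = xc hpF (vec chevF4 4 (r0 a b)) (((1 : ℤ) : K) * c) :=
  sl_tv hpF 0 (by rw [show ((0 : Fin 4) : ℕ) = 0 from rfl, simples.1]; rfl)
    (by rw [show ((0 : Fin 4) : ℕ) = 0 from rfl, simples.1, simples.2.2.2.2]; rfl) a b hab c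

theorem comm_blocks {K : Type u} [Field K] {φ : Matrix.SpecialLinearGroup (Fin 3) K →* ↥(chevF4.group K)}
    (hφ : ∀ a b (hab : a ≠ b) c, φ (Matrix.SpecialLinearGroup.transvection hab c) =
      xc hpF (vec chevF4 4 (rL a b)) (((1 : ℤ) : K) * c)) (A : Matrix.SpecialLinearGroup (Fin 3) K)
    (B : Matrix.SpecialLinearGroup (Fin 2) K) : Commute (φ A) (sl hpF 0 B) := by
  refine comm_hom φ (sl hpF 0) (fun a b hab c a' b' hab' c' => ?_) A B
  rw [hφ, sl0_tv]
  obtain ⟨h1, h2, h3, h4⟩ := tabC a b hab a' b' hab'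
  apply Subtype.ext
  change ((xc hpF _ _ : ↥(chevF4.group K)) : GL chevF4.Idx K) * ((xc hpF _ _ : ↥(chevF4.group K)) : GL chevF4.Idx K) =
    ((xc hpF _ _ : ↥(chevF4.group K)) : GL chevF4.Idx K) * ((xc hpF _ _ : ↥(chevF4.group K)) : GL chevF4.Idx K)
  rw [coe_xc hpF (rtL.1 a b hab), coe_xc hpF h1]
  exact Cfsg.Agent.TitsThree.KExcBase.comm_nil hpF.inList (rtL.1 a b hab) h1 h2 h3 h4 _ _

/-- **No fixed points.** -/
theorem nf {φ : Matrix.SpecialLinearGroup (Fin 3) (ZMod 2) →* ↥(chevF4.group (ZMod 2))}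
    (hφ : ∀ a b (hab : a ≠ b) c, φ (Matrix.SpecialLinearGroup.transvection hab c) =
      xc hpF (vec chevF4 4 (rL a b)) (((1 : ℤ) : ZMod 2) * c)) :
    NF (VJ CoxeterMatrix.F₄.toCoxeterSystem hpF.isCartan (XX chevF4 4 (ZMod 2)) JF)
        (φ Cfsg.Agent.H584.Ore.Tab.XX0 * sl hpF 0 Cfsg.Agent.H584.Ore.Tab.w) ∧
      NF (VNJ CoxeterMatrix.F₄.toCoxeterSystem hpF.isCartan (XX chevF4 4 (ZMod 2)) JF)
        (φ Cfsg.Agent.H584.Ore.Tab.XX0 * sl hpF 0 Cfsg.Agent.H584.Ore.Tab.w) := by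
  obtain ⟨K', _, _, ι, x, y, F⟩ := exists_fld
  obtain ⟨φ', hφ'⟩ := exists_long K'
  obtain ⟨P, hP⟩ := diag3 F ι
  obtain ⟨Q, hQ⟩ := diag2 F ι
  obtain ⟨p, hpc⟩ := CharP.exists K'
  have : Fact p.Prime := ⟨(CharP.char_is_prime_or_zero K' p).resolve_right (CharP.char_ne_zero_of_finite K' p)⟩
  have := finite_W hpF CoxeterMatrix.F₄.toCoxeterSystem
  have R := rgd (K := K') hpF CoxeterMatrix.F₄.toCoxeterSystem p
  have hcm := comm_blocks hφ'
  -- the torus element
  have hx0 : (x : K') ≠ 0 := x.ne_zero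
  have hy0 : (y : K') ≠ 0 := y.ne_zero
  have hpr : ∀ s, ∏ k : Fin 4, (((Pi.mulSingle 0 y : Fin 4 → K'ˣ) k : K'ˣ) : K') ^ chevF4.cartan k s =
      (y : K') ^ chevF4.cartan 0 s := by
    intro s
    rw [Finset.prod_eq_single (0 : Fin 4)]
    · rw [Pi.mulSingle_eq_same]; rfl
    · intro k _ hk
      rw [Pi.mulSingle_eq_of_ne hk, Units.val_one, _root_.one_zpow]
    · intro hi; exact absurd (Finset.mem_univ _) hi
  have hblk := nf_block hpF (K := K') (ε := 1) (by norm_num) rtL.1 rtL.2.2.2 hφ' (i := 3) (j := 2)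
    (by rw [show ((3 : Fin 4) : ℕ) = 3 from rfl, simples.2.2.2.1]; rfl)
    (by rw [show ((2 : Fin 4) : ℕ) = 2 from rfl, simples.2.2.1]; rfl)
    (J := JF) (fun a b hab k hk => by
      have hk1 : k = 1 := by
        by_contra h
        exact hk h
      rw [hk1]
      exact (tabJ a b hab).1)
    (σ := Pi.mulSingle 0 y) (fun a b hab => by
      rw [hpr, (tabJ a b hab).2, zpow_zero])
    (a := x) (b := x ^ 3) (fun s hs ⟨k, hk, hk0⟩ h => by
      have hk1 : k = 1 := by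
        by_contra h
        exact hk h
      rw [hk1] at hk0
      refine tabN s hs hk0 ?_
      rw [hpr] at h
      have e1 : y ^ chevF4.cartan 0 s * x ^ (chevF4.cartan 3 s + 3 * chevF4.cartan 2 s) = 1 := by
        apply Units.ext
        rw [Units.val_mul, Units.val_zpow_eq_zpow_val, Units.val_zpow_eq_zpow_val, Units.val_one, zpow_add₀ hx0,
          zpow_mul, zpow_ofNat]
        rw [Units.val_pow_eq_pow_val] at h
        exact h
      have h3 : y ^ 3 = 1 := Units.ext (by rw [Units.val_pow_eq_pow_val, F.y3, Units.val_one])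
      have e2 : x ^ ((chevF4.cartan 3 s + 3 * chevF4.cartan 2 s) * 3) = 1 := by
        have h4 := congrArg (· ^ (3 : ℤ)) e1
        simp only [mul_zpow, ← zpow_mul, _root_.one_zpow] at h4
        rw [mul_comm (chevF4.cartan 0 s) 3, zpow_mul, show y ^ (3 : ℤ) = y ^ 3 from zpow_ofNat y 3, h3,
          _root_.one_zpow, one_mul] at h4
        exact h4
      have h7 : (7 : ℤ) ∣ chevF4.cartan 3 s + 3 * chevF4.cartan 2 s := by
        have := F.seven _ e2
        omega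
      refine ⟨F.three _ ?_, h7⟩
      have h77 : x ^ 7 = 1 := Units.ext (by rw [Units.val_pow_eq_pow_val, F.x7, Units.val_one])
      obtain ⟨m, hm⟩ := h7
      rw [hm, zpow_mul, show x ^ (7 : ℤ) = x ^ 7 from zpow_ofNat x 7, h77, _root_.one_zpow, mul_one] at e1
      exact e1)
    hP
  have hc : bc chevF4 ι (φ Cfsg.Agent.H584.Ore.Tab.XX0 * sl hpF 0 Cfsg.Agent.H584.Ore.Tab.w) =
      sl hpF 0 Q * (th hpF (Pi.mulSingle 0 y) * φ' (Matrix.SpecialLinearGroup.map ι Cfsg.Agent.H584.Ore.Tab.XX0)) *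
        (sl hpF 0 Q)⁻¹ := by
    rw [map_mul, bc_phi hpF ι rtL.1 hφ hφ', bc_phi hpF ι (fun a b hab => (tabJ' a b hab).1) (sl0_tv (ZMod 2))
      (sl0_tv K'), hQ, map_mul, map_mul, map_inv, th_mulSingle]
    have h1 := hcm (Matrix.SpecialLinearGroup.map ι Cfsg.Agent.H584.Ore.Tab.XX0) (Q * dd (y : K') y.ne_zero * Q⁻¹)
    have h2 := hcm (Matrix.SpecialLinearGroup.map ι Cfsg.Agent.H584.Ore.Tab.XX0) Q⁻¹
    rw [map_mul, map_mul, map_inv] at h1
    rw [map_inv] at h2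
    rw [h1.eq]
    generalize φ' (Matrix.SpecialLinearGroup.map ι Cfsg.Agent.H584.Ore.Tab.XX0) = z at h1 h2 ⊢
    calc sl hpF 0 Q * sl hpF 0 (dd (y : K') y.ne_zero) * (sl hpF 0 Q)⁻¹ * z
        = sl hpF 0 Q * sl hpF 0 (dd (y : K') y.ne_zero) * ((sl hpF 0 Q)⁻¹ * z) := by group
      _ = sl hpF 0 Q * sl hpF 0 (dd (y : K') y.ne_zero) * (z * (sl hpF 0 Q)⁻¹) := by rw [h2.eq]
      _ = _ := by group
  have hQ' : sl hpF 0 Q ∈ LJ CoxeterMatrix.F₄.toCoxeterSystem hpF.isCartan (TT chevF4 K') (XX chevF4 4 K') JF :=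
    phi_mem hpF (fun a b hab => (tabJ' a b hab).1) (sl0_tv K') (fun a b hab k hk => by
      have hk1 : k = 1 := by
        by_contra h
        exact hk h
      rw [hk1]
      exact (tabJ' a b hab).2) Q
  constructor
  · refine NF.of_hom (bc chevF4 ι) (bc_injective chevF4 ι) (VJ_le_comap hpF ι JF) ?_
    rw [hc]
    exact NF.conj (LJ_le_normalizer_VJ R JF hQ') hblk.1
  · refine NF.of_hom (bc chevF4 ι) (bc_injective chevF4 ι) (VNJ_le_comap hpF ι JF) ?_
    rw [hc]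
    exact NF.conj (LJ_le_normalizer_VNJ R JF hQ') hblk.2

end Cfsg.Agent.H197.OreF
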