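import Cfsg.Agent.H197.OreF.Fixed
import Cfsg.Agent.H537.Ore.FFour
import Cfsg.Agent.H692.Ore.FFour
import Cfsg.Agent.H777.Ore.Base

/-!
`F₄(2)`: every element is a commutator and a product of four elements of square one (S2443, S4171).
-/

set_option autoImplicit false
set_option linter.unusedSectionVars false

namespace Cfsg.Agent.H197.OreF

open CoxeterSystem Cfsg.Agent.ChevalleyStructure.CoxeterGeom Cfsg.Agent.Tits.Roots Cfsg.Agent.Tits.Core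
  Cfsg.Agent.Nodes.Reps Cfsg.Agent.Nodes.BNOf Cfsg.Agent.Nodes.RGDLib Cfsg.Agent.Nodes.Bruhat
  Cfsg.Agent.Nodes.OppDec Cfsg.Agent.Nodes.LeviDec Cfsg.Agent.Nodes.KindChev Cfsg.Agent.Nodes.ChevCls
  Cfsg.Agent.OddHalf.NI.ModelChev Cfsg.Agent.Nodes.StabComb
  Cfsg.Agent.H162.GaussDec Cfsg.Agent.H162.GaussLevi Cfsg.Agent.H162.GaussSL
  Cfsg.Agent.H928.Ore.Frame
open Cfsg.Lie Cfsg.Agent.ChevalleyStructure Cfsg.Agent.ChevalleyStructure.Elts
  Cfsg.Agent.ChevalleyStructure.RootVec Cfsg.Agent.ChevalleyStructure.NPerm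
  Cfsg.Agent.ChevalleyStructure.CoxeterGeomTypes Cfsg.Agent.Nodes.RGDChev Cfsg.Agent.KFacts.RgdChevCoord
open Cfsg.Agent.H584.Ore

universe u

/-- **The square of one class**: `F₄(2)` -/
theorem square_two : ∃ c z : ↥(chevF4.group (ZMod 2)), z * z = 1 ∧ z * c * z⁻¹ = c⁻¹ ∧
    ∀ g : ↥(chevF4.group (ZMod 2)), ∃ x y : ↥(chevF4.group (ZMod 2)), g = (x * c * x⁻¹) * (y * c * y⁻¹) := by
  have : Fact (Nat.Prime 2) := ⟨Nat.prime_two⟩
  obtain ⟨φ, hφ⟩ := exists_long (ZMod 2)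
  obtain ⟨φS, hφS⟩ := exists_short (ZMod 2)
  have := finite_W hpF CoxeterMatrix.F₄.toCoxeterSystem
  have hcm := comm_blocks hφ
  let Φ : Matrix.SpecialLinearGroup (Fin 3) (ZMod 2) × Matrix.SpecialLinearGroup (Fin 2) (ZMod 2) →*
      ↥(chevF4.group (ZMod 2)) := φ.noncommCoprod (sl hpF 0) hcm
  have hΦ : ∀ A B, Φ (A, B) = φ A * sl hpF 0 B := fun A B => MonoidHom.noncommCoprod_apply _ _ _ _
  obtain ⟨z, hz1, hz2⟩ := Cfsg.Agent.H692.Ore.exists_real hpF rtL.1 rtL.2.2.2 hφ 0 Tab.tr_XX0 Tab.tr_w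
    (hcm Tab.XX0 Tab.w).eq
  obtain ⟨hf1, hf2⟩ := nf hφ
  rw [← hΦ] at hz2 hf1 hf2
  refine ⟨Φ (Tab.XX0, Tab.w), z, hz1, hz2, fun g => ?_⟩
  refine Build.all_of hpF 2 (Cfsg.Agent.S1054.result chevF4 (by simp)) (P := fun g => ∃ x y : ↥(chevF4.group (ZMod 2)),
    g = (x * Φ (Tab.XX0, Tab.w) * x⁻¹) * (y * Φ (Tab.XX0, Tab.w) * y⁻¹)) (fun g hg => ?_) g
  refine Par.square_par (rgd (K := ZMod 2) hpF CoxeterMatrix.F₄.toCoxeterSystem 2) (G1_eq_top hpF _)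
    (Cfsg.Agent.H162.GaussExc.coord hpF)
    (Cfsg.Agent.Nodes.ChevChart.irr_of Cfsg.Agent.Nodes.ChevChart.irrF) (J := JF) (K := {k | k = 0 ∨ k = 1}) (S := {0})
    ?_ ?_ (Cfsg.Agent.H537.Ore.abL_two hpF hφ hΦ (J := JF) fun k => Iff.rfl)
    (Cfsg.Agent.H537.Ore.abS_two hpF hφS (J := {k | k = 0 ∨ k = 1}) fun k => Iff.rfl)
    (ZU := fun _ A => A.2.1 0 1 = 0) (ZL := fun _ A => A.2.1 1 0 = 0) (ZU' := fun _ A => A.1 1 2 = 0)
    (ZL' := fun _ A => A.1 2 1 = 0) ?_ ?_ ?_ (c₀ := (Tab.XX0, Tab.w)) ?_ hf1 hf2 ⟨z, hz2⟩ hg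
  · rintro k rfl
    change (0 : Fin 4) ≠ 1
    decide
  · rintro k rfl
    exact Or.inl rfl
  · rintro k rfl
    exact Cfsg.Agent.H537.Ore.crdL_two hpF hφ hΦ
  · rintro k rfl
    exact Cfsg.Agent.H537.Ore.crdS_two hpF hφS
  · intro v hv u hu
    obtain ⟨y, L', hL', U', hU', e, hpar⟩ := Tab.parity hv hu
    exact ⟨y, L', hL', U', hU', e, fun _ _ => hpar⟩
  · rintro ⟨L, l⟩ hv ⟨U, u⟩ hu hpar
    obtain ⟨hL, hl⟩ := Subgroup.mem_prod.1 hv
    obtain ⟨hU, hu'⟩ := Subgroup.mem_prod.1 hu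
    exact Tab.prod_pair ⟨Tab.sw, Tab.sw_w⟩ hL hU (Tab.prod_three hl hu' (hpar 0 rfl))

/-- **S2443, `F₄(2)`**, over `ZMod 2` -/
theorem allC_two : Cfsg.Agent.H777.Ore.AllC ↥(chevF4.group (ZMod 2)) := by
  obtain ⟨c, z, -, hz, h⟩ := square_two
  intro g
  obtain ⟨x, y, e⟩ := h g
  exact Engine.comm_of e hz

/-- **S4171, `F₄(2)`**, over `ZMod 2` -/
theorem inv4_two : Cfsg.Agent.H777.Ore.Inv4 ↥(chevF4.group (ZMod 2)) := by
  obtain ⟨c, z, hz1, hz, h⟩ := square_two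
  intro g
  obtain ⟨x, y, e⟩ := h g
  have h1 : (z * c) * (z * c) = 1 := by
    have h2 : z⁻¹ = z := inv_eq_of_mul_eq_one_right hz1
    rw [h2] at hz
    calc z * c * (z * c) = (z * c * z) * c := by group
      _ = 1 := by rw [hz, inv_mul_cancel]
  have hcj : ∀ x a : ↥(chevF4.group (ZMod 2)), a * a = 1 → (x * a * x⁻¹) * (x * a * x⁻¹) = 1 := fun x a ha => by
    calc (x * a * x⁻¹) * (x * a * x⁻¹) = x * (a * a) * x⁻¹ := by group
      _ = 1 := by rw [ha, mul_one, mul_inv_cancel]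
  refine ⟨x * z * x⁻¹, x * (z * c) * x⁻¹, y * z * y⁻¹, y * (z * c) * y⁻¹, hcj _ _ hz1, hcj _ _ h1, hcj _ _ hz1,
    hcj _ _ h1, ?_⟩
  have h3 : c = z * (z * c) := by rw [← mul_assoc, hz1, one_mul]
  rw [e]
  calc (x * c * x⁻¹) * (y * c * y⁻¹) = (x * (z * (z * c)) * x⁻¹) * (y * (z * (z * c)) * y⁻¹) := by rw [← h3]
    _ = _ := by group

/-! ### Any field with two elements -/

section

variable {K : Type u} [Field K] [Fintype K]

/-- the isomorphism with the group over `ZMod 2` -/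
theorem exists_equiv_two (hK : Fintype.card K = 2) : Nonempty (↥(chevF4.group (ZMod 2)) ≃* ↥(chevF4.group K)) :=
  ⟨Cfsg.Agent.ChevalleyStructure.FieldIso.groupEquiv chevF4 (ZMod.ringEquivOfPrime K Nat.prime_two hK)⟩

/-- the square of one class -/
theorem square_F4_two (hK : Fintype.card K = 2) : ∃ c z : ↥(chevF4.group K), z * z = 1 ∧ z * c * z⁻¹ = c⁻¹ ∧
    ∀ g : ↥(chevF4.group K), ∃ x y : ↥(chevF4.group K), g = (x * c * x⁻¹) * (y * c * y⁻¹) := by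
  obtain ⟨e⟩ := exists_equiv_two hK
  obtain ⟨c, z, h1, h2, h⟩ := square_two
  refine ⟨e c, e z, ?_, ?_, fun g => ?_⟩
  · have h3 := congrArg e h1
    rw [map_mul, map_one] at h3
    exact h3
  · have h3 := congrArg e h2
    rw [map_mul, map_mul, map_inv, map_inv] at h3
    exact h3
  · obtain ⟨x, y, hxy⟩ := h (e.symm g)
    refine ⟨e x, e y, ?_⟩
    have h3 := congrArg e hxy
    rw [e.apply_symm_apply, map_mul, map_mul, map_mul, map_mul, map_mul, map_inv, map_inv] at h3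
    exact h3

/-- **S2443, `F₄(2)`** -/
theorem allC_F4_two (hK : Fintype.card K = 2) : Cfsg.Agent.H777.Ore.AllC ↥(chevF4.group K) := by
  obtain ⟨e⟩ := exists_equiv_two hK
  intro g
  obtain ⟨a, b, h⟩ := allC_two (e.symm g)
  refine ⟨e a, e b, ?_⟩
  have h3 := congrArg e h
  rw [e.apply_symm_apply, map_mul, map_mul, map_mul, map_inv, map_inv] at h3
  exact h3

/-- **S4171, `F₄(2)`** -/
theorem inv4_F4_two (hK : Fintype.card K = 2) : Cfsg.Agent.H777.Ore.Inv4 ↥(chevF4.group K) := by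
  obtain ⟨e⟩ := exists_equiv_two hK
  intro g
  obtain ⟨a, b, c, d, ha, hb, hc, hd, h⟩ := inv4_two (e.symm g)
  have hs : ∀ a : ↥(chevF4.group (ZMod 2)), a * a = 1 → e a * e a = 1 := fun a ha => by
    have h3 := congrArg e ha
    rw [map_mul, map_one] at h3
    exact h3
  refine ⟨e a, e b, e c, e d, hs a ha, hs b hb, hs c hc, hs d hd, ?_⟩
  have h3 := congrArg e h
  rw [e.apply_symm_apply, map_mul, map_mul, map_mul] at h3
  exact h3

end

end Cfsg.Agent.H197.OreF
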